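import Cfsg.Agent.Lib.Helper8.MeoL.GraphK
import Mathlib

/-!
# Assembly of the bound for `Aut(PSL_d(q))` (helper8, for S2262)
-/

set_option autoImplicit false

namespace Cfsg.Agent.Lib.Helper8.MeoL
open Cfsg Matrix Cfsg.Agent.AutPSLCount

variable {d : ℕ} {F : Type*} [Field F]

theorem orderOf_le_mul {G : Type*} [Group G] (x : G) (k : ℕ) (hk : 0 < k)
    (hfin : 0 < orderOf (x ^ k)) : orderOf x ≤ k * orderOf (x ^ k) := by
  apply Nat.le_of_dvd (Nat.mul_pos hk hfin)
  apply orderOf_dvd_of_pow_eq_one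
  rw [pow_mul, pow_orderOf_eq_one]

theorem orderOf_Dh_eq (hd : 2 ≤ d) (g : GL (Fin d) F) :
    orderOf (Dh g : MulAut (PSLn d F)) = orderOf (QuotientGroup.mk g :
      GL (Fin d) F ⧸ Subgroup.center (GL (Fin d) F)) := by
  have key : ∀ k : ℕ, (Dh g : MulAut (PSLn d F)) ^ k = 1 ↔ (QuotientGroup.mk g :
      GL (Fin d) F ⧸ Subgroup.center (GL (Fin d) F)) ^ k = 1 := by
    intro k
    rw [← map_pow, ← QuotientGroup.mk_pow, QuotientGroup.eq_one_iff, ← Dh_ker hd,
      MonoidHom.mem_ker]
  apply Nat.dvd_antisymm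
  · apply orderOf_dvd_of_pow_eq_one
    rw [key, pow_orderOf_eq_one]
  · apply orderOf_dvd_of_pow_eq_one
    rw [← key, pow_orderOf_eq_one]

/-- a field with four elements has only involutory automorphisms -/
theorem sq_of_card_four [Fintype F] (hF : Fintype.card F = 4) (σ : RingAut F) : σ ^ 2 = 1 := by
  classical
  have : Finite (RingAut F) := Finite.of_injective (fun σ : RingAut F => (σ : F → F))
    (fun a b h => RingEquiv.ext (congrFun h))
  have hfo : IsOfFinOrder σ := isOfFinOrder_of_finite σ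
  have hfin : Finite (Subgroup.zpowers σ) := Set.finite_coe_iff.2 hfo.finite_zpowers
  let _ : Fintype (Subgroup.zpowers σ) := Fintype.ofFinite _
  let _ : Fintype (FixedPoints.subfield (Subgroup.zpowers σ) F) := Fintype.ofFinite _
  have h1 : Module.finrank (FixedPoints.subfield (Subgroup.zpowers σ) F) F = orderOf σ := by
    rw [FixedPoints.finrank_eq_card, ← Nat.card_eq_fintype_card, Nat.card_zpowers]
  have h2 := Module.card_eq_pow_finrank (K := FixedPoints.subfield (Subgroup.zpowers σ) F) (V := F)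
  rw [h1, hF] at h2
  have hK : 2 ≤ Fintype.card (FixedPoints.subfield (Subgroup.zpowers σ) F) := Fintype.one_lt_card
  have he : orderOf σ ≤ 2 := by
    by_contra h
    push Not at h
    have h3 : 2 ^ 3 ≤ Fintype.card (FixedPoints.subfield (Subgroup.zpowers σ) F) ^ orderOf σ :=
      le_trans (Nat.pow_le_pow_left hK 3) (Nat.pow_le_pow_right (by omega) h)
    omega
  have hpos : 0 < orderOf σ := hfo.orderOf_pos
  apply orderOf_dvd_iff_pow_eq_one.1
  have : orderOf σ = 1 ∨ orderOf σ = 2 := by omega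
  rcases this with h | h
  · rw [h]; exact one_dvd 2
  · rw [h]

section upper

variable [Fintype F]

/-- the upper bound, given the factorisation and the bounds for the field cosets -/
theorem upper_all (hd : 2 ≤ d) (h32 : ¬ (d = 3 ∧ Fintype.card F = 2)) (hfac : Fac d F)
    (hB : ∀ (σ : RingAut F), σ ≠ 1 → ∀ g : GL (Fin d) F,
      (Fintype.card F - 1) * (orderOf σ * orderOf (QuotientGroup.mk (twPow σ g (orderOf σ)) :
        GL (Fin d) F ⧸ Subgroup.center (GL (Fin d) F))) ≤ Fintype.card F ^ d - 1)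
    (hB2 : 3 ≤ d → ¬ (d = 3 ∧ Fintype.card F = 4) → ∀ (σ : RingAut F), σ ≠ 1 →
      ∀ g : GL (Fin d) F,
      2 * ((Fintype.card F - 1) * (orderOf σ * orderOf (QuotientGroup.mk (twPow σ g (orderOf σ)) :
        GL (Fin d) F ⧸ Subgroup.center (GL (Fin d) F)))) ≤ Fintype.card F ^ d - 1)
    (hE : 3 ≤ d → ∀ h : GL (Fin d) F, 3 ≤ Fintype.card F →
      (∀ μ : F, μ ≠ 0 → (h.val - Matrix.scalar (Fin d) μ).det = 0) →
      2 * ((Fintype.card F - 1) * orderOf (QuotientGroup.mk h :
        GL (Fin d) F ⧸ Subgroup.center (GL (Fin d) F))) ≤ Fintype.card F ^ d - 1)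
    (hE2 : ∀ h : GL (Fin d) F, 4 ≤ d → Fintype.card F = 2 → (h.val - 1).det = 0 →
      2 * orderOf h ≤ 2 ^ d - 1)
    (φ : MulAut (PSLn d F)) :
    (Fintype.card F - 1) * orderOf φ ≤ Fintype.card F ^ d - 1 := by
  classical
  have hfinA : Finite (MulAut (PSLn d F)) := inferInstance
  have hfinR : Finite (RingAut F) := Finite.of_injective (fun σ : RingAut F => (σ : F → F))
    (fun a b h => RingEquiv.ext (congrFun h))
  -- the twisted cosets
  have hcos : ∀ (σ : RingAut F) (g : GL (Fin d) F),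
      orderOf (Dh g * Ph σ : MulAut (PSLn d F)) ≤ orderOf σ * orderOf (QuotientGroup.mk
        (twPow σ g (orderOf σ)) : GL (Fin d) F ⧸ Subgroup.center (GL (Fin d) F)) := by
    intro σ g
    have h1 := orderOf_le_mul (Dh g * Ph σ : MulAut (PSLn d F)) (orderOf σ) (orderOf_pos σ)
      (orderOf_pos _)
    rw [Dh_Ph_pow_orderOf, orderOf_Dh_eq hd] at h1
    exact h1
  have key1 : ∀ (g : GL (Fin d) F) (σ : RingAut F),
      (Fintype.card F - 1) * orderOf (Dh g * Ph σ : MulAut (PSLn d F))
        ≤ Fintype.card F ^ d - 1 := by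
    intro g σ
    by_cases hσ : σ = 1
    · subst hσ
      rw [map_one, mul_one, orderOf_Dh_eq hd]
      exact Cfsg.Agent.S2261.upper d (by omega) _
    · exact le_trans (Nat.mul_le_mul_left _ (hcos σ g)) (hB σ hσ g)
  obtain ⟨g, σ, c, hc, rfl⟩ := hfac φ
  rcases hc with rfl | rfl
  · rw [mul_one]
    exact key1 g σ
  · rcases Nat.lt_or_ge d 3 with hd3 | hd3
    · have h2 : d = 2 := by omega
      subst h2
      rw [Γ_two, mul_assoc, Ph_Dh, ← mul_assoc, ← map_mul]
      exact key1 _ σ
    · have h1 := orderOf_le_mul (Dh g * Ph σ * Γ : MulAut (PSLn d F)) 2 (by norm_num)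
        (orderOf_pos _)
      rw [graph_sq] at h1
      by_cases hρ : σ ^ 2 = 1
      · rw [hρ, map_one, mul_one, orderOf_Dh_eq hd] at h1
        have hσ' : ∀ x, σ (σ x) = x := by
          intro x
          have := congrArg (fun τ : RingAut F => τ x) hρ
          simpa [pow_two] using this
        have h3 := graph_bound_aux hd3 h32 (hE hd3) hE2 σ hσ' g
        calc (Fintype.card F - 1) * orderOf (Dh g * Ph σ * Γ : MulAut (PSLn d F))
            ≤ (Fintype.card F - 1) * (2 * orderOf (QuotientGroup.mk (asym σ g) :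
              GL (Fin d) F ⧸ Subgroup.center (GL (Fin d) F))) := Nat.mul_le_mul_left _ h1
          _ = 2 * ((Fintype.card F - 1) * orderOf (QuotientGroup.mk (asym σ g) :
              GL (Fin d) F ⧸ Subgroup.center (GL (Fin d) F))) := by ring
          _ ≤ _ := h3
      · have h34 : ¬ (d = 3 ∧ Fintype.card F = 4) := fun h => hρ (sq_of_card_four h.2 σ)
        have h3 := hB2 hd3 h34 (σ ^ 2) hρ (g * gti (Matrix.GeneralLinearGroup.map (σ : F →+* F) g))
        have h4 := hcos (σ ^ 2) (g * gti (Matrix.GeneralLinearGroup.map (σ : F →+* F) g))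
        calc (Fintype.card F - 1) * orderOf (Dh g * Ph σ * Γ : MulAut (PSLn d F))
            ≤ (Fintype.card F - 1) * (2 * (orderOf (σ ^ 2) * orderOf (QuotientGroup.mk
              (twPow (σ ^ 2) (g * gti (Matrix.GeneralLinearGroup.map (σ : F →+* F) g))
                (orderOf (σ ^ 2))) : GL (Fin d) F ⧸ Subgroup.center (GL (Fin d) F)))) :=
              Nat.mul_le_mul_left _ (le_trans h1 (Nat.mul_le_mul_left _ h4))
          _ = 2 * ((Fintype.card F - 1) * (orderOf (σ ^ 2) * orderOf (QuotientGroup.mk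
              (twPow (σ ^ 2) (g * gti (Matrix.GeneralLinearGroup.map (σ : F →+* F) g))
                (orderOf (σ ^ 2))) : GL (Fin d) F ⧸ Subgroup.center (GL (Fin d) F)))) := by ring
          _ ≤ _ := h3

/-- the Singer cycle gives an automorphism of the maximal order -/
theorem exists_all (hd : 2 ≤ d) :
    ∃ φ : MulAut (PSLn d F), (Fintype.card F - 1) * orderOf φ = Fintype.card F ^ d - 1 := by
  obtain ⟨g', hg'⟩ := Cfsg.Agent.S2261.exists_singer (F := F) d (by omega)
  obtain ⟨g, rfl⟩ := QuotientGroup.mk_surjective g'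
  exact ⟨Dh g, by rw [orderOf_Dh_eq hd g]; exact hg'⟩

end upper

end Cfsg.Agent.Lib.Helper8.MeoL
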