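import Cfsg.Agent.Lib.Helper8.MeoL.Tw
import Cfsg.Agent.S2261
import Mathlib

/-!
# The graph cosets: the main counting lemma (helper8, for S2262)

For `h = g σ(g)⁻ᵀ` with `σ² = 1`, the map `τ(X) = g σ(X)ᵀ g⁻¹` is a semilinear anti-automorphism with `τ(h) = h⁻¹`.
The group `{x ∈ F[h]ˣ : τ(x) = c x⁻¹}` contains the scalars and `h`, and has index at least two in `F[h]ˣ` as soon as
some `h - μ` (`μ ≠ 0`) is invertible and `h²` is not in the span of `1, h`.
-/

set_option autoImplicit false

namespace Cfsg.Agent.Lib.Helper8.MeoL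
open Cfsg Matrix Cfsg.Agent.AutPSLCount

variable {d : ℕ} {F : Type*} [Field F]

/-- the `σ`-semilinear anti-automorphism `X ↦ g σ(X)ᵀ g⁻¹` -/
def tauM (σ : RingAut F) (g : GL (Fin d) F) (X : Matrix (Fin d) (Fin d) F) :
    Matrix (Fin d) (Fin d) F := g.val * (X.map σ)ᵀ * g⁻¹.val

theorem gl_inv_mul (g : GL (Fin d) F) : g⁻¹.val * g.val = 1 := by
  rw [← Units.val_mul, inv_mul_cancel, Units.val_one]

theorem gl_mul_inv (g : GL (Fin d) F) : g.val * g⁻¹.val = 1 := by
  rw [← Units.val_mul, mul_inv_cancel, Units.val_one]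

theorem tauM_one (σ : RingAut F) (g : GL (Fin d) F) : tauM σ g 1 = 1 := by
  unfold tauM
  rw [Matrix.map_one _ (map_zero σ) (map_one σ), transpose_one, Matrix.mul_one, gl_mul_inv]

theorem tauM_mul (σ : RingAut F) (g : GL (Fin d) F) (X Y : Matrix (Fin d) (Fin d) F) :
    tauM σ g (X * Y) = tauM σ g Y * tauM σ g X := by
  unfold tauM
  have h1 : (X * Y).map σ = X.map σ * Y.map σ := by
    ext i j
    simp only [Matrix.map_apply, Matrix.mul_apply, map_sum, map_mul]
  rw [h1, transpose_mul]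
  calc g.val * ((Y.map σ)ᵀ * (X.map σ)ᵀ) * g⁻¹.val
      = g.val * (Y.map σ)ᵀ * 1 * ((X.map σ)ᵀ * g⁻¹.val) := by
        rw [Matrix.mul_one]; simp only [Matrix.mul_assoc]
    _ = g.val * (Y.map σ)ᵀ * (g⁻¹.val * g.val) * ((X.map σ)ᵀ * g⁻¹.val) := by rw [gl_inv_mul]
    _ = g.val * (Y.map σ)ᵀ * g⁻¹.val * (g.val * (X.map σ)ᵀ * g⁻¹.val) := by
        simp only [Matrix.mul_assoc]

theorem tauM_add (σ : RingAut F) (g : GL (Fin d) F) (X Y : Matrix (Fin d) (Fin d) F) :
    tauM σ g (X + Y) = tauM σ g X + tauM σ g Y := by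
  unfold tauM
  have h1 : (X + Y).map σ = X.map σ + Y.map σ := by
    ext i j
    simp only [Matrix.map_apply, Matrix.add_apply, map_add]
  rw [h1, transpose_add, Matrix.mul_add, Matrix.add_mul]

theorem tauM_smul (σ : RingAut F) (g : GL (Fin d) F) (c : F) (X : Matrix (Fin d) (Fin d) F) :
    tauM σ g (c • X) = σ c • tauM σ g X := by
  unfold tauM
  have h1 : (c • X).map σ = σ c • X.map σ := by
    ext i j
    simp only [Matrix.map_apply, Matrix.smul_apply, smul_eq_mul, map_mul]
  rw [h1, transpose_smul, Matrix.mul_smul, Matrix.smul_mul]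

theorem tauM_sub (σ : RingAut F) (g : GL (Fin d) F) (X Y : Matrix (Fin d) (Fin d) F) :
    tauM σ g (X - Y) = tauM σ g X - tauM σ g Y := by
  have h1 : X - Y = X + (-1 : F) • Y := by rw [neg_one_smul, sub_eq_add_neg]
  rw [h1, tauM_add, tauM_smul, map_neg, map_one, neg_one_smul, sub_eq_add_neg]

/-- the asymmetry `g σ(g)⁻ᵀ` -/
noncomputable def asym (σ : RingAut F) (g : GL (Fin d) F) : GL (Fin d) F :=
  g * gti (Matrix.GeneralLinearGroup.map (σ : F →+* F) g)

theorem asym_val (σ : RingAut F) (g : GL (Fin d) F) :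
    (asym σ g).val = g.val * ((g⁻¹.val).map σ)ᵀ := by
  unfold asym
  rw [Units.val_mul, gti_val, ← map_inv]
  rfl

theorem asym_inv_val (σ : RingAut F) (g : GL (Fin d) F) :
    (asym σ g)⁻¹.val = ((g.val).map σ)ᵀ * g⁻¹.val := by
  unfold asym
  rw [_root_.mul_inv_rev, Units.val_mul, gti_inv_val]
  rfl

theorem tauM_asym (σ : RingAut F) (hσ : ∀ x, σ (σ x) = x) (g : GL (Fin d) F) :
    tauM σ g (asym σ g).val = (asym σ g)⁻¹.val := by
  rw [asym_val, asym_inv_val]
  unfold tauM
  have h1 : (g.val * ((g⁻¹.val).map σ)ᵀ).map σ = g.val.map σ * (g⁻¹.val)ᵀ := by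
    ext i j
    simp only [Matrix.map_apply, Matrix.mul_apply, map_sum, map_mul, Matrix.transpose_apply, hσ]
  rw [h1, transpose_mul, transpose_transpose, ← Matrix.mul_assoc, gl_mul_inv,
    Matrix.one_mul]

/-- the scalar matrices as elements of `GL` -/
noncomputable def scGL (c : Fˣ) : GL (Fin d) F := Units.map (Matrix.scalar (Fin d)).toMonoidHom c

theorem scGL_val (c : Fˣ) : (scGL c : GL (Fin d) F).val = (c : F) • 1 := by
  unfold scGL
  rw [Units.coe_map]
  show Matrix.scalar (Fin d) (c : F) = _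
  rw [Matrix.scalar_apply, Matrix.smul_one_eq_diagonal]

theorem scGL_mem_center (c : Fˣ) : (scGL c : GL (Fin d) F) ∈ Subgroup.center (GL (Fin d) F) := by
  rw [Matrix.GeneralLinearGroup.mem_center_iff_val_mem_range_scalar]
  refine ⟨(c : F), ?_⟩
  rw [scGL_val, Matrix.scalar_apply, Matrix.smul_one_eq_diagonal]

/-- a subgroup containing the scalars and `h` has at least `(q - 1) * |h̄|` elements -/
theorem card_ge_of_mem [Fintype F] (hd : 1 ≤ d) (h : GL (Fin d) F) (W : Subgroup (GL (Fin d) F))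
    (hZ : Subgroup.center (GL (Fin d) F) ≤ W) (hh : h ∈ W) :
    (Fintype.card F - 1) * orderOf (QuotientGroup.mk h :
      GL (Fin d) F ⧸ Subgroup.center (GL (Fin d) F)) ≤ Nat.card W := by
  classical
  set m := orderOf (QuotientGroup.mk h : GL (Fin d) F ⧸ Subgroup.center (GL (Fin d) F)) with hm
  let ψ : Fˣ × Fin m → W := fun x =>
    ⟨scGL x.1 * h ^ (x.2 : ℕ), W.mul_mem (hZ (scGL_mem_center x.1)) (W.pow_mem hh _)⟩
  have hψ : Function.Injective ψ := by
    rintro ⟨c, i⟩ ⟨c', j⟩ hcc
    have h0 : scGL c * h ^ (i : ℕ) = scGL c' * h ^ (j : ℕ) := congrArg Subtype.val hcc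
    have h1 : (QuotientGroup.mk h : GL (Fin d) F ⧸ Subgroup.center (GL (Fin d) F)) ^ (i : ℕ)
        = (QuotientGroup.mk h) ^ (j : ℕ) := by
      have e1 : ∀ (c : Fˣ) (k : ℕ), (QuotientGroup.mk (scGL c * h ^ k) :
          GL (Fin d) F ⧸ Subgroup.center (GL (Fin d) F)) = (QuotientGroup.mk h) ^ k := by
        intro c k
        rw [QuotientGroup.mk_mul, (QuotientGroup.eq_one_iff _).2 (scGL_mem_center c), one_mul,
          QuotientGroup.mk_pow]
      rw [← e1 c, ← e1 c', h0]
    have h2 : (i : ℕ) = j := pow_injOn_Iio_orderOf (Set.mem_Iio.2 i.2) (Set.mem_Iio.2 j.2) h1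
    have hij : i = j := Fin.ext h2
    subst hij
    have h3 : (scGL c : GL (Fin d) F) = scGL c' := mul_right_cancel h0
    have h4 := congrArg (fun x : GL (Fin d) F => x.val ⟨0, hd⟩ ⟨0, hd⟩) h3
    simp only [scGL_val, Matrix.smul_apply, Matrix.one_apply_eq, smul_eq_mul, mul_one] at h4
    rw [Units.ext h4]
  have h1 := Nat.card_le_card_of_injective ψ hψ
  rw [Nat.card_eq_fintype_card, Fintype.card_prod, Fintype.card_units, Fintype.card_fin] at h1
  exact h1

/-- `F[M]` lies in the span of the first `d` powers -/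
theorem adjoin_le_range (hd : 1 ≤ d) (M x : Matrix (Fin d) (Fin d) F)
    (hx : x ∈ Algebra.adjoin F {M}) :
    x ∈ LinearMap.range (Fintype.linearCombination F (fun j : Fin d => M ^ (j : ℕ))) := by
  rw [Algebra.adjoin_singleton_eq_range_aeval] at hx
  obtain ⟨p, rfl⟩ := hx
  show Polynomial.aeval M p ∈ _
  rw [Polynomial.aeval_eq_sum_range]
  apply Submodule.sum_mem
  intro i _
  exact Submodule.smul_mem _ _ (Cfsg.Agent.S2261.pow_mem_range d hd M i)

/-- a group of invertible elements of `F[M]` has at most `q ^ d - 1` elements -/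
theorem card_le_of_adjoin [Fintype F] (hd : 1 ≤ d) (M : Matrix (Fin d) (Fin d) F)
    (C : Subgroup (GL (Fin d) F)) (hC : ∀ x ∈ C, x.val ∈ Algebra.adjoin F {M}) :
    Nat.card C + 1 ≤ Fintype.card F ^ d := by
  classical
  have : Nonempty (Fin d) := ⟨⟨0, hd⟩⟩
  let Wd := LinearMap.range (Fintype.linearCombination F (fun j : Fin d => M ^ (j : ℕ)))
  let ψ : Option C → Wd := fun o => match o with
    | none => 0
    | some x => ⟨x.1.val, adjoin_le_range hd M _ (hC x.1 x.2)⟩
  have hne : ∀ x : GL (Fin d) F, x.val ≠ 0 := fun x => x.isUnit.ne_zero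
  have hψ : Function.Injective ψ := by
    intro o o' h
    match o, o' with
    | none, none => rfl
    | none, some x =>
      exfalso
      have := congrArg Subtype.val h
      exact hne x.1 this.symm
    | some x, none =>
      exfalso
      have := congrArg Subtype.val h
      exact hne x.1 this
    | some x, some y =>
      have h' : x.1.val = y.1.val := congrArg Subtype.val h
      rw [Subtype.ext (Units.ext h')]
  have h1 : Nat.card (Option C) ≤ Nat.card Wd := Nat.card_le_card_of_injective ψ hψ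
  have h2 : Nat.card Wd ≤ Nat.card (Fin d → F) :=
    Nat.card_le_card_of_surjective _ (LinearMap.surjective_rangeRestrict _)
  have h4 : Nat.card (Fin d → F) = Fintype.card F ^ d := by
    rw [Nat.card_eq_fintype_card, Fintype.card_fun, Fintype.card_fin]
  rw [Finite.card_option] at h1
  omega

/-- a proper subgroup has at most half the elements -/
theorem two_mul_card_le {G : Type*} [Group G] [Finite G] (W C : Subgroup G) (hWC : W ≤ C) (x : G)
    (hxC : x ∈ C) (hxW : x ∉ W) : 2 * Nat.card W ≤ Nat.card C := by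
  let ψ : W ⊕ W → C := fun o => match o with
    | Sum.inl w => ⟨w.1, hWC w.2⟩
    | Sum.inr w => ⟨x * w.1, C.mul_mem hxC (hWC w.2)⟩
  have hψ : Function.Injective ψ := by
    intro o o' h
    match o, o' with
    | Sum.inl w, Sum.inl w' =>
      have h' : w.1 = w'.1 := congrArg (fun z : C => (z : G)) h
      rw [Subtype.ext h']
    | Sum.inl w, Sum.inr w' =>
      exfalso
      have h' : w.1 = x * w'.1 := congrArg (fun z : C => (z : G)) h
      apply hxW
      have : x = w.1 * (w'.1)⁻¹ := by rw [h', mul_inv_cancel_right]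
      rw [this]
      exact W.mul_mem w.2 (W.inv_mem w'.2)
    | Sum.inr w, Sum.inl w' =>
      exfalso
      have h' : x * w.1 = w'.1 := congrArg (fun z : C => (z : G)) h
      apply hxW
      have : x = w'.1 * (w.1)⁻¹ := by rw [← h', mul_inv_cancel_right]
      rw [this]
      exact W.mul_mem w'.2 (W.inv_mem w.2)
    | Sum.inr w, Sum.inr w' =>
      have h' : x * w.1 = x * w'.1 := congrArg (fun z : C => (z : G)) h
      rw [Subtype.ext (mul_left_cancel h')]
  have h1 := Nat.card_le_card_of_injective ψ hψ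
  rw [Nat.card_sum] at h1
  omega

end Cfsg.Agent.Lib.Helper8.MeoL
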