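import Cfsg.Agent.Lib.Helper8.MeoL.GraphI
import Mathlib

/-!
# The graph cosets: the main lemma (helper8, for S2262)
-/

set_option autoImplicit false

namespace Cfsg.Agent.Lib.Helper8.MeoL
open Cfsg Matrix Cfsg.Agent.AutPSLCount

variable {d : ℕ} {F : Type*} [Field F]

theorem inv_eq_pow_card {G : Type*} [Group G] [Finite G] (h : G) :
    h⁻¹ = h ^ (Nat.card G - 1) := by
  have hpos : 0 < Nat.card G := Nat.card_pos
  symm
  apply eq_inv_of_mul_eq_one_right
  rw [← pow_succ', Nat.sub_add_cancel hpos, pow_card_eq_one']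

theorem inv_val_mem_adjoin [Finite F] (M : Matrix (Fin d) (Fin d) F) (x : GL (Fin d) F)
    (hx : x.val ∈ Algebra.adjoin F {M}) : x⁻¹.val ∈ Algebra.adjoin F {M} := by
  classical
  rw [inv_eq_pow_card x, Units.val_pow_eq_pow_val]
  exact Subalgebra.pow_mem _ hx _

/-- `τ` preserves `F[h]` when `τ(h) = h⁻¹` -/
theorem tauM_mem_adjoin [Finite F] (σ : RingAut F) (g h : GL (Fin d) F)
    (hτ : tauM σ g h.val = h⁻¹.val) (x : Matrix (Fin d) (Fin d) F)
    (hx : x ∈ Algebra.adjoin F {h.val}) : tauM σ g x ∈ Algebra.adjoin F {h.val} := by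
  induction hx using Algebra.adjoin_induction with
  | mem x hx =>
    rw [Set.mem_singleton_iff] at hx
    subst hx
    rw [hτ]
    exact inv_val_mem_adjoin _ h (Algebra.subset_adjoin (Set.mem_singleton _))
  | algebraMap r =>
    rw [Algebra.algebraMap_eq_smul_one, tauM_smul, tauM_one]
    exact Subalgebra.smul_mem _ (Subalgebra.one_mem _) _
  | add x y hx hy ihx ihy =>
    rw [tauM_add]
    exact Subalgebra.add_mem _ ihx ihy
  | mul x y hx hy ihx ihy =>
    rw [tauM_mul]
    exact Subalgebra.mul_mem _ ihy ihx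

/-- the main lemma for the graph cosets -/
theorem graph_main [Fintype F] (hd : 1 ≤ d) (σ : RingAut F) (hσ : ∀ x, σ (σ x) = x)
    (g : GL (Fin d) F) (μ : F) (hμ : μ ≠ 0)
    (hdet : ((asym σ g).val - Matrix.scalar (Fin d) μ).det ≠ 0)
    (hind : ¬ ∃ a b : F, (asym σ g).val ^ 2 = a • (asym σ g).val + b • 1) :
    2 * ((Fintype.card F - 1) * orderOf (QuotientGroup.mk (asym σ g) :
      GL (Fin d) F ⧸ Subgroup.center (GL (Fin d) F))) ≤ Fintype.card F ^ d - 1 := by
  classical
  set h := asym σ g with hh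
  have hτh : tauM σ g h.val = h⁻¹.val := tauM_asym σ hσ g
  have hhA : h.val ∈ Algebra.adjoin F {h.val} := Algebra.subset_adjoin (Set.mem_singleton _)
  let C : Subgroup (GL (Fin d) F) :=
    { carrier := {x | x.val ∈ Algebra.adjoin F {h.val}}
      mul_mem' := fun {a b} ha hb => by
        show (a * b).val ∈ Algebra.adjoin F {h.val}
        rw [Units.val_mul]
        exact Subalgebra.mul_mem _ ha hb
      one_mem' := by
        show (1 : GL (Fin d) F).val ∈ Algebra.adjoin F {h.val}
        rw [Units.val_one]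
        exact Subalgebra.one_mem _
      inv_mem' := fun {a} ha => inv_val_mem_adjoin _ a ha }
  let W : Subgroup (GL (Fin d) F) :=
    { carrier := {x | x.val ∈ Algebra.adjoin F {h.val} ∧
        ∃ c : F, c ≠ 0 ∧ x.val * tauM σ g x.val = c • 1}
      mul_mem' := fun {a b} ha hb => by
        obtain ⟨ha1, ca, hca0, hca⟩ := ha
        obtain ⟨hb1, cb, hcb0, hcb⟩ := hb
        refine ⟨?_, cb * ca, mul_ne_zero hcb0 hca0, ?_⟩
        · rw [Units.val_mul]
          exact Subalgebra.mul_mem _ ha1 hb1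
        · rw [Units.val_mul, tauM_mul]
          calc a.val * b.val * (tauM σ g b.val * tauM σ g a.val)
              = a.val * (b.val * tauM σ g b.val) * tauM σ g a.val := by
                simp only [Matrix.mul_assoc]
            _ = (cb * ca) • 1 := by
                rw [hcb, Matrix.mul_smul, Matrix.mul_one, Matrix.smul_mul, hca, smul_smul]
      one_mem' := by
        refine ⟨?_, 1, one_ne_zero, ?_⟩
        · rw [Units.val_one]
          exact Subalgebra.one_mem _
        · rw [Units.val_one, tauM_one, Matrix.one_mul, one_smul]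
      inv_mem' := fun {a} ha => by
        obtain ⟨ha1, c, hc0, hc⟩ := ha
        refine ⟨inv_val_mem_adjoin _ a ha1, c⁻¹, inv_ne_zero hc0, ?_⟩
        have h1 : tauM σ g a⁻¹.val * tauM σ g a.val = 1 := by
          rw [← tauM_mul, gl_mul_inv, tauM_one]
        have h2 : tauM σ g a.val = c • a⁻¹.val := by
          calc tauM σ g a.val = a⁻¹.val * (a.val * tauM σ g a.val) := by
                rw [← Matrix.mul_assoc, gl_inv_mul, Matrix.one_mul]
            _ = c • a⁻¹.val := by rw [hc, Matrix.mul_smul, Matrix.mul_one]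
        rw [h2, Matrix.mul_smul] at h1
        have h3 : tauM σ g a⁻¹.val = c⁻¹ • a.val := by
          calc tauM σ g a⁻¹.val = c⁻¹ • ((c • (tauM σ g a⁻¹.val * a⁻¹.val)) * a.val) := by
                rw [Matrix.smul_mul, smul_smul, inv_mul_cancel₀ hc0, one_smul, Matrix.mul_assoc,
                  gl_inv_mul, Matrix.mul_one]
            _ = c⁻¹ • a.val := by rw [h1, Matrix.one_mul]
        rw [h3, Matrix.mul_smul, gl_inv_mul] }
  have hWC : W ≤ C := fun x hx => hx.1
  -- the centre lies in `W`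
  have hZW : Subgroup.center (GL (Fin d) F) ≤ W := by
    intro z hz
    rw [Matrix.GeneralLinearGroup.mem_center_iff_val_mem_range_scalar] at hz
    obtain ⟨a, ha⟩ := hz
    have ha' : z.val = a • 1 := by
      rw [← ha, Matrix.scalar_apply, Matrix.smul_one_eq_diagonal]
    have ha0 : a ≠ 0 := by
      intro h0
      have : Nonempty (Fin d) := ⟨⟨0, hd⟩⟩
      apply z.isUnit.ne_zero
      rw [ha', h0, zero_smul]
    refine ⟨?_, a * σ a, mul_ne_zero ha0 ((map_ne_zero σ).2 ha0), ?_⟩
    · rw [ha']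
      exact Subalgebra.smul_mem _ (Subalgebra.one_mem _) _
    · rw [ha', tauM_smul, tauM_one, Matrix.smul_mul, Matrix.one_mul, smul_smul]
  have hhW : h ∈ W := by
    refine ⟨hhA, 1, one_ne_zero, ?_⟩
    rw [hτh, gl_mul_inv, one_smul]
  -- the element `h - μ`
  let x₀ : GL (Fin d) F := Matrix.GeneralLinearGroup.mkOfDetNeZero _ hdet
  have hx₀ : x₀.val = h.val - μ • 1 := by
    show h.val - Matrix.scalar (Fin d) μ = _
    rw [Matrix.scalar_apply, Matrix.smul_one_eq_diagonal]
  have hx₀C : x₀ ∈ C := by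
    show x₀.val ∈ Algebra.adjoin F {h.val}
    rw [hx₀]
    exact Subalgebra.sub_mem _ hhA (Subalgebra.smul_mem _ (Subalgebra.one_mem _) _)
  have hx₀W : x₀ ∉ W := by
    rintro ⟨-, c, -, hc⟩
    apply hind
    rw [hx₀, tauM_sub, tauM_smul, tauM_one, hτh] at hc
    have hσμ : σ μ ≠ 0 := (map_ne_zero σ).2 hμ
    have h1 : (h.val - μ • 1) * (h⁻¹.val - σ μ • 1) * h.val = c • h.val := by
      rw [hc, Matrix.smul_mul, Matrix.one_mul]
    have h2 : (h.val - μ • 1) * (h⁻¹.val - σ μ • 1) * h.val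
        = h.val - σ μ • h.val ^ 2 - μ • 1 + (μ * σ μ) • h.val := by
      have e1 : (h⁻¹.val - σ μ • 1) * h.val = 1 - σ μ • h.val := by
        rw [Matrix.sub_mul, gl_inv_mul, Matrix.smul_mul, Matrix.one_mul]
      rw [Matrix.mul_assoc, e1, Matrix.sub_mul, Matrix.mul_sub, Matrix.mul_sub, Matrix.mul_one,
        Matrix.smul_mul, Matrix.one_mul, Matrix.mul_smul, Matrix.smul_mul, Matrix.one_mul,
        smul_smul, pow_two]
      abel
    rw [h2] at h1
    refine ⟨(σ μ)⁻¹ * (1 + μ * σ μ - c), -((σ μ)⁻¹ * μ), ?_⟩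
    have h3 : σ μ • h.val ^ 2 = (1 + μ * σ μ - c) • h.val - μ • 1 := by
      rw [sub_smul, add_smul, one_smul, ← h1]
      abel
    calc h.val ^ 2 = (σ μ)⁻¹ • (σ μ • h.val ^ 2) := by
          rw [smul_smul, inv_mul_cancel₀ hσμ, one_smul]
      _ = ((σ μ)⁻¹ * (1 + μ * σ μ - c)) • h.val + (-((σ μ)⁻¹ * μ)) • 1 := by
          rw [h3, smul_sub, smul_smul, smul_smul, neg_smul, sub_eq_add_neg]
  have h1 := card_ge_of_mem hd h W hZW hhW
  have h2 := two_mul_card_le W C hWC x₀ hx₀C hx₀W
  have h3 := card_le_of_adjoin hd h.val C (fun x hx => hx)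
  have h4 : 2 * ((Fintype.card F - 1) * orderOf (QuotientGroup.mk h :
      GL (Fin d) F ⧸ Subgroup.center (GL (Fin d) F))) ≤ 2 * Nat.card W :=
    Nat.mul_le_mul_left 2 h1
  omega

end Cfsg.Agent.Lib.Helper8.MeoL
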