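import Cfsg.Agent.Lib.Helper8.MeoL.GraphJ
import Mathlib

/-!
# The graph cosets: the bound for the asymmetry (helper8, for S2262)
-/

set_option autoImplicit false

namespace Cfsg.Agent.Lib.Helper8.MeoL
open Cfsg Matrix Cfsg.Agent.AutPSLCount

variable {d : ℕ} {F : Type*} [Field F]

theorem sc_pow_inj (hd : 1 ≤ d) (h : GL (Fin d) F) (c c' : Fˣ) (i j : ℕ)
    (hi : i < orderOf (QuotientGroup.mk h : GL (Fin d) F ⧸ Subgroup.center (GL (Fin d) F)))
    (hj : j < orderOf (QuotientGroup.mk h : GL (Fin d) F ⧸ Subgroup.center (GL (Fin d) F)))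
    (h0 : scGL c * h ^ i = scGL c' * h ^ j) : c = c' ∧ i = j := by
  have h1 : (QuotientGroup.mk h : GL (Fin d) F ⧸ Subgroup.center (GL (Fin d) F)) ^ i
      = (QuotientGroup.mk h) ^ j := by
    have e1 : ∀ (c : Fˣ) (k : ℕ), (QuotientGroup.mk (scGL c * h ^ k) :
        GL (Fin d) F ⧸ Subgroup.center (GL (Fin d) F)) = (QuotientGroup.mk h) ^ k := by
      intro c k
      rw [QuotientGroup.mk_mul, (QuotientGroup.eq_one_iff _).2 (scGL_mem_center c), one_mul,
        QuotientGroup.mk_pow]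
    rw [← e1 c, ← e1 c', h0]
  have h2 : i = j := pow_injOn_Iio_orderOf (Set.mem_Iio.2 hi) (Set.mem_Iio.2 hj) h1
  subst h2
  have h3 : (scGL c : GL (Fin d) F) = scGL c' := mul_right_cancel h0
  have h4 := congrArg (fun x : GL (Fin d) F => x.val ⟨0, hd⟩ ⟨0, hd⟩) h3
  simp only [scGL_val, Matrix.smul_apply, Matrix.one_apply_eq, smul_eq_mul, mul_one] at h4
  exact ⟨Units.ext h4, rfl⟩

/-- a subspace containing all powers of `h` has at least `(q - 1) |h̄| + 1` elements -/
theorem count_le_submodule [Fintype F] (hd : 1 ≤ d) (h : GL (Fin d) F)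
    (S : Submodule F (Matrix (Fin d) (Fin d) F)) (hS : ∀ k : ℕ, h.val ^ k ∈ S) :
    (Fintype.card F - 1) * orderOf (QuotientGroup.mk h :
      GL (Fin d) F ⧸ Subgroup.center (GL (Fin d) F)) + 1 ≤ Nat.card S := by
  classical
  have : Nonempty (Fin d) := ⟨⟨0, hd⟩⟩
  set m := orderOf (QuotientGroup.mk h : GL (Fin d) F ⧸ Subgroup.center (GL (Fin d) F)) with hm
  have hval : ∀ (c : Fˣ) (i : ℕ), (scGL c * h ^ i : GL (Fin d) F).val = (c : F) • h.val ^ i := by
    intro c i
    rw [Units.val_mul, scGL_val, Matrix.smul_mul, Matrix.one_mul, Units.val_pow_eq_pow_val]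
  let ψ : Option (Fˣ × Fin m) → S := fun o => match o with
    | none => 0
    | some x => ⟨(scGL x.1 * h ^ (x.2 : ℕ) : GL (Fin d) F).val, by
        rw [hval]
        exact S.smul_mem _ (hS _)⟩
  have hne : ∀ x : GL (Fin d) F, x.val ≠ 0 := fun x => x.isUnit.ne_zero
  have hψ : Function.Injective ψ := by
    intro o o' h'
    match o, o' with
    | none, none => rfl
    | none, some x =>
      exfalso
      have h'' : (0 : Matrix (Fin d) (Fin d) F)
          = (scGL x.1 * h ^ (x.2 : ℕ) : GL (Fin d) F).val := congrArg Subtype.val h'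
      exact hne _ h''.symm
    | some x, none =>
      exfalso
      have h'' : (scGL x.1 * h ^ (x.2 : ℕ) : GL (Fin d) F).val
          = (0 : Matrix (Fin d) (Fin d) F) := congrArg Subtype.val h'
      exact hne _ h''
    | some x, some y =>
      have h'' : (scGL x.1 * h ^ (x.2 : ℕ) : GL (Fin d) F).val
          = (scGL y.1 * h ^ (y.2 : ℕ) : GL (Fin d) F).val := congrArg Subtype.val h'
      obtain ⟨e1, e2⟩ := sc_pow_inj hd h x.1 y.1 x.2 y.2 x.2.2 y.2.2 (Units.ext h'')
      rw [Prod.ext e1 (Fin.ext e2)]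
  have h1 : Nat.card (Option (Fˣ × Fin m)) ≤ Nat.card S := Nat.card_le_card_of_injective ψ hψ
  rw [Finite.card_option, Nat.card_eq_fintype_card, Fintype.card_prod, Fintype.card_units,
    Fintype.card_fin] at h1
  exact h1

/-- the case where `h²` lies in the span of `1, h` -/
theorem small_span [Fintype F] (hd : 3 ≤ d) (h : GL (Fin d) F) (a b : F)
    (hab : h.val ^ 2 = a • h.val + b • 1) :
    2 * ((Fintype.card F - 1) * orderOf (QuotientGroup.mk h :
      GL (Fin d) F ⧸ Subgroup.center (GL (Fin d) F))) ≤ Fintype.card F ^ d - 1 := by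
  classical
  let v : Fin 2 → Matrix (Fin d) (Fin d) F := ![1, h.val]
  let S : Submodule F (Matrix (Fin d) (Fin d) F) :=
    LinearMap.range (Fintype.linearCombination F v)
  have h1S : (1 : Matrix (Fin d) (Fin d) F) ∈ S := by
    refine ⟨![1, 0], ?_⟩
    simp [Fintype.linearCombination_apply, Fin.sum_univ_two, v]
  have hhS : h.val ∈ S := by
    refine ⟨![0, 1], ?_⟩
    simp [Fintype.linearCombination_apply, Fin.sum_univ_two, v]
  have hmul : ∀ x ∈ S, x * h.val ∈ S := by
    rintro x ⟨w, rfl⟩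
    rw [Fintype.linearCombination_apply, Fin.sum_univ_two]
    have e0 : v 0 = 1 := rfl
    have e1 : v 1 = h.val := rfl
    rw [e0, e1, Matrix.add_mul, Matrix.smul_mul, Matrix.one_mul, Matrix.smul_mul, ← pow_two, hab]
    exact S.add_mem (S.smul_mem _ hhS)
      (S.smul_mem _ (S.add_mem (S.smul_mem _ hhS) (S.smul_mem _ h1S)))
  have hS : ∀ k : ℕ, h.val ^ k ∈ S := by
    intro k
    induction k with
    | zero => rw [pow_zero]; exact h1S
    | succ k ih => rw [pow_succ]; exact hmul _ ih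
  have h1 := count_le_submodule (by omega) h S hS
  have h2 : Nat.card S ≤ Nat.card (Fin 2 → F) :=
    Nat.card_le_card_of_surjective _ (LinearMap.surjective_rangeRestrict _)
  have h3 : Nat.card (Fin 2 → F) = Fintype.card F ^ 2 := by
    rw [Nat.card_eq_fintype_card, Fintype.card_fun, Fintype.card_fin]
  rw [h3] at h2
  have hq : 2 ≤ Fintype.card F := Fintype.one_lt_card
  have h4 : Fintype.card F ^ 3 ≤ Fintype.card F ^ d := Nat.pow_le_pow_right (by omega) hd
  have h5 : 2 * Fintype.card F ^ 2 ≤ Fintype.card F ^ 3 := by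
    rw [pow_succ _ 2, mul_comm]
    exact Nat.mul_le_mul_left _ hq
  omega

/-- the bound for the asymmetry, given the two lemmas on the eigenvalue case -/
theorem graph_bound_aux [Fintype F] (hd : 3 ≤ d) (h32 : ¬ (d = 3 ∧ Fintype.card F = 2))
    (hE : ∀ h : GL (Fin d) F, 3 ≤ Fintype.card F →
      (∀ μ : F, μ ≠ 0 → (h.val - Matrix.scalar (Fin d) μ).det = 0) →
      2 * ((Fintype.card F - 1) * orderOf (QuotientGroup.mk h :
        GL (Fin d) F ⧸ Subgroup.center (GL (Fin d) F))) ≤ Fintype.card F ^ d - 1)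
    (hE2 : ∀ h : GL (Fin d) F, 4 ≤ d → Fintype.card F = 2 → (h.val - 1).det = 0 →
      2 * orderOf h ≤ 2 ^ d - 1)
    (σ : RingAut F) (hσ : ∀ x, σ (σ x) = x) (g : GL (Fin d) F) :
    2 * ((Fintype.card F - 1) * orderOf (QuotientGroup.mk (asym σ g) :
      GL (Fin d) F ⧸ Subgroup.center (GL (Fin d) F))) ≤ Fintype.card F ^ d - 1 := by
  classical
  by_cases hind : ∃ a b : F, (asym σ g).val ^ 2 = a • (asym σ g).val + b • 1
  · obtain ⟨a, b, hab⟩ := hind
    exact small_span hd _ a b hab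
  by_cases hμ : ∃ μ : F, μ ≠ 0 ∧ ((asym σ g).val - Matrix.scalar (Fin d) μ).det ≠ 0
  · obtain ⟨μ, hμ0, hdet⟩ := hμ
    exact graph_main (by omega) σ hσ g μ hμ0 hdet hind
  push Not at hμ
  have hq : 2 ≤ Fintype.card F := Fintype.one_lt_card
  rcases Nat.lt_or_ge (Fintype.card F) 3 with hq3 | hq3
  · have hq2 : Fintype.card F = 2 := by omega
    have hd4 : 4 ≤ d := by
      rcases Nat.lt_or_ge d 4 with h | h
      · exact absurd ⟨by omega, hq2⟩ h32
      · exact h
    have h1 := hμ 1 one_ne_zero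
    rw [map_one] at h1
    have h2 := hE2 (asym σ g) hd4 hq2 h1
    have h3 : orderOf (QuotientGroup.mk (asym σ g) :
        GL (Fin d) F ⧸ Subgroup.center (GL (Fin d) F)) ≤ orderOf (asym σ g) := by
      apply Nat.le_of_dvd (orderOf_pos _)
      exact orderOf_map_dvd (QuotientGroup.mk' (Subgroup.center (GL (Fin d) F))) (asym σ g)
    rw [hq2]
    omega
  · exact hE (asym σ g) hq3 hμ

end Cfsg.Agent.Lib.Helper8.MeoL
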