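import Cfsg.Agent.Lib.Lead.AutPSLCountC
import Mathlib

/-!
# Twisted powers (helper8, for S2262)

`twPow σ g k = g σ(g) ⋯ σ^{k-1}(g)`, so that `(Dh g * Ph σ) ^ k = Dh (twPow σ g k) * Ph (σ ^ k)`.
-/

set_option autoImplicit false

namespace Cfsg.Agent.Lib.Helper8.MeoL
open Cfsg Matrix Cfsg.Agent.AutPSLCount

variable {n : ℕ} {F : Type*} [Field F]

/-- the twisted power `g σ(g) ⋯ σ^{k-1}(g)` -/
noncomputable def twPow (σ : RingAut F) (g : GL (Fin n) F) : ℕ → GL (Fin n) F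
  | 0 => 1
  | k + 1 => g * Matrix.GeneralLinearGroup.map (σ : F →+* F) (twPow σ g k)

theorem twPow_zero (σ : RingAut F) (g : GL (Fin n) F) : twPow σ g 0 = 1 := rfl

theorem twPow_succ (σ : RingAut F) (g : GL (Fin n) F) (k : ℕ) :
    twPow σ g (k + 1) = g * Matrix.GeneralLinearGroup.map (σ : F →+* F) (twPow σ g k) := rfl

theorem Dh_Ph_pow (σ : RingAut F) (g : GL (Fin n) F) (k : ℕ) :
    (Dh g * Ph σ : MulAut (PSLn n F)) ^ k = Dh (twPow σ g k) * Ph (σ ^ k) := by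
  induction k with
  | zero => rw [pow_zero, pow_zero, twPow_zero, map_one, map_one, one_mul]
  | succ k ih =>
    rw [pow_succ', ih, twPow_succ, map_mul, pow_succ', map_mul]
    rw [mul_assoc, ← mul_assoc (Ph σ), Ph_Dh]
    simp only [mul_assoc]

/-- the `orderOf σ`-th power of `Dh g * Ph σ` is inner-diagonal -/
theorem Dh_Ph_pow_orderOf (σ : RingAut F) (g : GL (Fin n) F) :
    (Dh g * Ph σ : MulAut (PSLn n F)) ^ (orderOf σ) = Dh (twPow σ g (orderOf σ)) := by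
  rw [Dh_Ph_pow, pow_orderOf_eq_one, map_one, mul_one]

/-- the square of a graph-type automorphism -/
theorem graph_sq (σ : RingAut F) (g : GL (Fin n) F) :
    (Dh g * Ph σ * Γ : MulAut (PSLn n F)) ^ 2
      = Dh (g * gti (Matrix.GeneralLinearGroup.map (σ : F →+* F) g)) * Ph (σ ^ 2) := by
  rw [pow_two, map_mul, pow_two, map_mul]
  have h1 : (Dh g * Ph σ * Γ : MulAut (PSLn n F)) * (Dh g * Ph σ * Γ)
      = Dh g * Ph σ * (Γ * Dh g) * Ph σ * Γ := by simp only [mul_assoc]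
  rw [h1, Γ_Dh]
  have h2 : (Dh g * Ph σ * (Dh (gti g) * Γ) * Ph σ * Γ : MulAut (PSLn n F))
      = Dh g * (Ph σ * Dh (gti g)) * (Γ * Ph σ) * Γ := by simp only [mul_assoc]
  rw [h2, Ph_Dh, Γ_Ph]
  have h3 : (Dh g * (Dh (Matrix.GeneralLinearGroup.map (σ : F →+* F) (gti g)) * Ph σ) * (Ph σ * Γ) * Γ
      : MulAut (PSLn n F))
      = Dh g * Dh (Matrix.GeneralLinearGroup.map (σ : F →+* F) (gti g)) * Ph σ * Ph σ * (Γ * Γ) := by
    simp only [mul_assoc]
  have hk : Matrix.GeneralLinearGroup.map (σ : F →+* F) (gti g)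
      = gti (Matrix.GeneralLinearGroup.map (σ : F →+* F) g) := by
    apply Units.ext
    rw [gti_val]
    show (gti g).val.map σ = ((Matrix.GeneralLinearGroup.map (σ : F →+* F) g)⁻¹).valᵀ
    rw [gti_val, ← map_inv]
    show (g⁻¹.valᵀ).map σ = ((g⁻¹).val.map σ)ᵀ
    rw [transpose_map]
  rw [h3, Γ_Γ, mul_one, hk]
  simp only [mul_assoc]

end Cfsg.Agent.Lib.Helper8.MeoL
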